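import Cfsg.Agent.H866.J4OddEnd_mg
import Cfsg.Agent.OrdDiv.Table
import Cfsg.Agent.S5566
import Cfsg.Agent.S5577
import Cfsg.Agent.H859.Iso
import Cfsg.Agent.H858.FixJ4
import Cfsg.Agent.H866.J4Facts
import Cfsg.Agent.H859.PGLWords
import Cfsg.Agent.H859.Transfer
import Cfsg.Agent.H397.ZAut
import Cfsg.Agent.KFacts.M24Two.Out
import Cfsg.Agent.KFacts.M23.OutOne
import Cfsg.Agent.S5567
import Cfsg.Agent.H858.VK
import Cfsg.Agent.H865.RhoEleven
import Cfsg.Agent.S5570
import Cfsg.Agent.FastGrp
import Cfsg.Agent.Prune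
set_option linter.all false
prune_inst 0x7f00000000000000000000000000000000000000000000000000000000000000000000000000000000000000000000000000000000000000000000000000000000000000000000000000000000000000003fffffffffffffffffffffffffffbeffbdffffffff
open scoped Cfsg.Agent.FastGrp

-- part: H860/MaxBase
section
/-!
# Overgroups of a Sylow `p`-subgroup of prime order in groups of Janko-four type (helper860)

The variant of `H866.J4Odd.Facts.over` for the primes `23` and `31`, where normal `2`-subgroups have to be allowed.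
-/

set_option autoImplicit false

namespace Cfsg.Agent.H860.MaxBase

open Cfsg Subgroup
open Cfsg.Agent.OrdDiv
open Cfsg.Agent.H866.J4Ord Cfsg.Agent.H866.J4Min Cfsg.Agent.H866.OddTools Cfsg.Agent.H866.J4Odd
open Cfsg.Agent.OddOrderLocal.SylIn

universe u

/-- the facts on `J4` used here -/
structure Base (G : Type u) [Group G] [Finite G] : Prop where
  tab : OrderTable.{u}
  known : Known.{u}
  card : Nat.card G = nJ
  ea : ∀ A : Subgroup G, IsElementaryAbelian 2 A → Nat.card A ≤ 2 ^ 11

variable {G : Type u} [Group G] [Finite G]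

theorem Base.dvd (F : Base G) (A : Subgroup G) : Nat.card A ∣ nJ :=
  F.card ▸ Subgroup.card_subgroup_dvd_card A

/-- the order of an elementary abelian subgroup -/
theorem Base.ea_card (F : Base G) {R : Subgroup G} (hR : R ≠ ⊥) {r : ℕ} (hr : r.Prime)
    (h : IsElementaryAbelian r R) : ∃ x ∈ lJ, ∃ j : ℕ, 1 ≤ j ∧ j ≤ x.2 ∧ (x.1 = 2 → j ≤ 11) ∧ x.1 = r ∧
      Nat.card R = x.1 ^ j := by
  have : Fact r.Prime := ⟨hr⟩
  have h1 : IsPGroup r R := fun x => ⟨1, by rw [pow_one]; exact Subtype.ext (h.2 x x.2)⟩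
  obtain ⟨j, hj⟩ := IsPGroup.iff_card.1 h1
  have hj1 : 1 ≤ j := by
    by_contra h0
    have : j = 0 := by omega
    rw [this, pow_zero] at hj
    exact hR (Subgroup.card_eq_one.1 hj)
  obtain ⟨k, hk, hjk⟩ := exists_pair valid_lJ hr hj1 (hj ▸ F.dvd R)
  refine ⟨(r, k), hk, j, hj1, hjk, ?_, rfl, hj⟩
  rintro (rfl : r = 2)
  have h2 := F.ea R h
  rw [hj] at h2
  exact (Nat.pow_le_pow_iff_right (by norm_num)).1 h2

/-- the powers of odd primes dividing the order of `J4` which are `1` modulo `p` -/
def okC (p : ℕ) : Bool :=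
  lJ.all fun x => (List.range (x.2 + 1)).all fun j => (j == 0) || (x.1 == 2) || (x.1 == p) ||
    (x.1 ^ j % p != 1)

theorem okC_spec {p : ℕ} (h : okC p = true) {x : ℕ × ℕ} (hx : x ∈ lJ) {j : ℕ} (hj : 1 ≤ j) (hj2 : j ≤ x.2)
    (h2 : x.1 ≠ 2) (hp : x.1 ≠ p) : x.1 ^ j % p ≠ 1 := by
  unfold okC at h
  rw [List.all_eq_true] at h
  have h3 := h x hx
  rw [List.all_eq_true] at h3
  have h4 := h3 j (List.mem_range.2 (by omega))
  simp only [Bool.or_eq_true, beq_iff_eq, bne_iff_ne] at h4
  rcases h4 with ((h4 | h4) | h4) | h4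
  · omega
  · exact absurd h4 h2
  · exact absurd h4 hp
  · exact h4

/-- the primes for which the order count works -/
def goodC (p : ℕ) : Bool :=
  okC p && ([5, 7, 23, 29, 31, 37, 43].all fun q => (q == p) || ((q - 1) % p != 0)) &&
    ([5, 7, 23, 29, 31, 37, 43].all fun q => nJ % q ^ 2 != 0) && (nJ % p ^ 2 != 0)

theorem goodC_23 : goodC 23 = true := by decide +kernel
theorem goodC_31 : goodC 31 = true := by decide +kernel

/-- **overgroups of a self-centralizing Sylow subgroup of prime order** -/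
theorem Base.over (F : Base G) {p : ℕ} (hp : p.Prime) (hg : goodC p = true) {P H : Subgroup G}
    (hP : Nat.card P = p) (hC : centralizer (P : Set G) ≤ P) (hPH : P ≤ H)
    (hH : ¬ H ≤ normalizer (P : Set G)) :
    (∃ R : Subgroup G, R ≤ H ∧ H ≤ normalizer (R : Set G) ∧ IsElementaryAbelian 2 R ∧
      R ⊓ centralizer (P : Set G) = ⊥ ∧
      ∃ j : ℕ, 1 ≤ j ∧ j ≤ 11 ∧ 2 ^ j % p = 1 ∧ Nat.card R = 2 ^ j) ∨
    ∃ K : Subgroup G, K ≤ H ∧ H ≤ normalizer (K : Set G) ∧
      IsSimpleGroup K ∧ (¬ ∀ a b : K, a * b = b * a) ∧ Nat.card K ∈ ords ∧ P ≤ K ∧ IsSyl p P K ∧ IsSyl p P H := by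
  have : Fact p.Prime := ⟨hp⟩
  unfold goodC at hg
  simp only [Bool.and_eq_true] at hg
  obtain ⟨⟨⟨hg1, hg2⟩, hg3⟩, hg4⟩ := hg
  have hPg : IsPGroup p P := IsPGroup.of_card (n := 1) (by rw [hP, pow_one])
  have hp2 : ¬ p ^ 2 ∣ nJ := by
    intro h
    rw [Nat.mod_eq_zero_of_dvd h] at hg4
    exact absurd hg4 (by decide)
  have hsyl : ∀ X : Subgroup G, P ≤ X → IsSyl p P X := fun X hX => by
    refine ⟨hX, hPg, fun h => hp2 ?_⟩
    have h1 := card_mul_relIndex hX
    obtain ⟨c, hc⟩ := h
    have h2 : p ^ 2 ∣ Nat.card X := ⟨c, by rw [← h1, hP, hc]; ring⟩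
    exact h2.trans (F.dvd X)
  have hH1 : H ≠ ⊥ := by
    rintro rfl
    exact hH bot_le
  obtain ⟨R, hRH, hR, hn, -, h⟩ := exists_min F.tab F.known (F.card ▸ dvd_rfl) H hH1
  have hPR : ¬ P ≤ R → P ⊓ R = ⊥ := by
    intro h0
    have h1 := Subgroup.card_dvd_of_le (inf_le_left : P ⊓ R ≤ P)
    rw [hP] at h1
    rcases (Nat.dvd_prime hp).1 h1 with h2 | h2
    · exact Subgroup.card_eq_one.1 h2
    · exact absurd (inf_eq_left.1 (Subgroup.eq_of_le_of_card_ge inf_le_left (by rw [hP, h2]))) h0
  rcases h with ⟨r, hr, h⟩ | ⟨h1, h2, h3⟩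
  · left
    obtain ⟨x, hx, j, hj1, hj2, hj3, rfl, hj⟩ := F.ea_card hR hr h
    have hr' : Fact (x.1).Prime := ⟨hr⟩
    by_cases hle : P ≤ R
    · -- then `R = P`
      exfalso
      have h4 : p ∣ x.1 ^ j := by
        rw [← hj, ← hP]
        exact Subgroup.card_dvd_of_le hle
      have h5 : p = x.1 := (Nat.prime_dvd_prime_iff_eq hp hr).1 (hp.dvd_of_dvd_pow h4)
      have h6 : j = 1 := by
        by_contra hne
        apply hp2
        rw [h5]
        exact (pow_dvd_pow _ (by omega : 2 ≤ j)).trans (hj ▸ F.dvd R)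
      have h7 : P = R := Subgroup.eq_of_le_of_card_ge hle (by rw [hj, hP, h6, pow_one, h5])
      rw [← h7] at hn
      exact hH hn
    · have h4 := hPR hle
      have h5 : R ⊓ centralizer (P : Set G) = ⊥ := by
        rw [eq_bot_iff, ← h4, inf_comm P R]
        exact inf_le_inf_left _ hC
      have h6 := card_mod_one hPg (hPH.trans hn) h5
      rw [hj] at h6
      by_cases h2 : x.1 = 2
      · rw [h2] at h h6 hj
        exact ⟨R, hRH, hn, h, h5, j, hj1, hj3 h2, h6, hj⟩
      · exfalso
        refine okC_spec hg1 hx hj1 hj2 h2 ?_ h6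
        rintro rfl
        rw [Nat.pow_mod, Nat.mod_self, Nat.zero_pow (by omega), Nat.zero_mod] at h6
        exact absurd h6 (by norm_num)
  · right
    refine ⟨R, hRH, hn, h1, h2, h3, ?_⟩
    by_cases hpK : p ∣ Nat.card R
    · -- then `P ≤ R`
      obtain ⟨Q, hQ⟩ := exists_isSyl p R
      have h4 : Nat.card Q = p := by
        obtain ⟨j, hj⟩ := IsPGroup.iff_card.1 hQ.isPGroup
        have h5 : j ≠ 0 := by
          rintro rfl
          have h6 := card_mul_relIndex hQ.le
          rw [hj, pow_zero, one_mul] at h6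
          exact hQ.not_dvd (h6 ▸ hpK)
        have h6 : ¬ 2 ≤ j := fun h7 => hp2 ((pow_dvd_pow _ h7).trans (hj ▸ F.dvd Q))
        have h7 : j = 1 := by omega
        rw [hj, h7, pow_one]
      have h5 : IsSyl p Q H := (hsyl H hPH).of_card_le (hQ.le.trans hRH) hQ.isPGroup (by rw [h4, hP])
      obtain ⟨x, hx, h6⟩ := h5.exists_conj (hsyl H hPH)
      have h7 : P ≤ R := by
        rw [← h6]
        rintro _ ⟨y, hy, rfl⟩
        exact ((mem_normalizer_iff.1 (hn hx)) y).1 (hQ.le hy)
      exact ⟨h7, hsyl R h7, hsyl H hPH⟩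
    · exfalso
      obtain ⟨q, hq, hqd⟩ := ords_fst _ h3
      have hqp : q.Prime := prime_of_mem hq
      have hne : q ≠ p := by
        rintro rfl
        exact hpK hqd
      rw [List.all_eq_true] at hg2 hg3
      have h4 := hg2 q hq
      simp only [Bool.or_eq_true, beq_iff_eq, bne_iff_ne] at h4
      have h5 : ¬ p ∣ q - 1 := fun h6 => by
        rcases h4 with h4 | h4
        · exact hne h4
        · exact h4 (Nat.mod_eq_zero_of_dvd h6)
      have h6 : ¬ q ^ 2 ∣ Nat.card R := fun h7 => by
        have h8 := hg3 q hq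
        rw [Nat.mod_eq_zero_of_dvd (h7.trans (F.dvd R))] at h8
        exact absurd h8 (by decide)
      obtain ⟨Y, hYR, hY, hYc⟩ := exists_cent hPg (hPH.trans hn) hpK hqp hqd h6 h5
      have h7 : q ∣ p := by
        rw [← hY, ← hP]
        exact Subgroup.card_dvd_of_le (hYc.trans hC)
      exact hne ((Nat.prime_dvd_prime_iff_eq hqp hp).1 h7)

theorem Base.eq_top (F : Base G) {K : Subgroup G} (h : Nat.card K = nJ) : K = ⊤ :=
  Subgroup.eq_top_of_card_eq K (by rw [h, F.card])

/-- the subgroups of order `p` are Sylow subgroups -/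
theorem Base.key (F : Base G) {p : ℕ} [Fact p.Prime] (h1 : ¬ p ^ 2 ∣ nJ) (Q : Subgroup G → Prop)
    (hQ : ∀ U : Sylow p G, Q U) {P : Subgroup G} (hP : Nat.card P = p) : Q P := by
  obtain ⟨U, hU⟩ := Cfsg.Agent.H866.J4OddEnd.exists_sylow_eq F.card (p := p) (n := 1) h1 (P := P) (by rw [hP, pow_one])
  rw [← hU]
  exact hQ U

end Cfsg.Agent.H860.MaxBase
end

-- part: H860/MaxPGL
section
/-!
# The maximal subgroup `PGL₂(23)` of `J4` (helper860)
-/

set_option autoImplicit false

namespace Cfsg.Agent.H860.MaxPGL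

open Cfsg Subgroup
open Cfsg.Agent.OrdDiv
open Cfsg.Agent.H866.J4Ord Cfsg.Agent.H866.J4Min Cfsg.Agent.H866.OddTools Cfsg.Agent.H866.J4Odd
open Cfsg.Agent.OddOrderLocal.SylIn Cfsg.Agent.OddOrderLocal
open Cfsg.Agent.H860.MaxBase

universe u

variable {G : Type u} [Group G] [Finite G]

theorem _root_.Cfsg.Agent.H866.J4Odd.Facts.base (F : Facts G) : Base G where
  tab := F.tab
  known := F.known
  card := F.card
  ea := F.ea

/-- data on subgroups of prime order, transported from `J4` -/
theorem transfer (e : Cfsg.Spor.J4 ≃* G) {p c n : ℕ}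
    (h : ∀ P : Subgroup Cfsg.Spor.J4, Nat.card P = p → Nat.card (centralizer (P : Set Cfsg.Spor.J4)) = c ∧
      Nat.card (normalizer (P : Set Cfsg.Spor.J4)) = n) {P : Subgroup G} (hP : Nat.card P = p) :
    Nat.card (centralizer (P : Set G)) = c ∧ Nat.card (normalizer (P : Set G)) = n := by
  have h1 : (P.map e.symm.toMonoidHom).map e.toMonoidHom = P := by
    rw [Subgroup.map_map]
    convert Subgroup.map_id P
    ext x
    simp
  have h2 := h (P.map e.symm.toMonoidHom) (by rw [Cfsg.Agent.H859.Transfer.card_map, hP])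
  rw [← h1, Cfsg.Agent.H859.Transfer.map_normalizer, Cfsg.Agent.H859.Transfer.map_centralizer,
    Cfsg.Agent.H859.Transfer.card_map, Cfsg.Agent.H859.Transfer.card_map]
  exact h2

/-- self-centralizing subgroups of prime order -/
theorem cent_le {p : ℕ} (hp : p.Prime) {P : Subgroup G} (hP : Nat.card P = p)
    (h : Nat.card (centralizer (P : Set G)) = p) : centralizer (P : Set G) ≤ P :=
  (Cfsg.Agent.H859.PrimeSub.centralizer_eq hp hP h).le

/-- the order of the normalizer of an elementary abelian subgroup of order `2 ^ 11` -/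
theorem card_NV [IsSimpleGroup G] (hG : ¬ IsMulCommutative G) (hJ : Cfsg.IsOfJankoFourType G) {V : Subgroup G}
    (hV : IsElementaryAbelian 2 V) (hc : Nat.card V = 2 ^ 11) :
    Nat.card (normalizer (V : Set G)) = 244823040 * 2 ^ 11 := by
  obtain ⟨-, K, hK1, hK2, hK3, ⟨f⟩⟩ := Cfsg.Agent.S5567.result hG hJ V hV hc
  have h1 := Cfsg.Agent.StdL2.G23Coset.card_sup_mul_card_inf hK1
  rw [hK3, hK2, Subgroup.card_bot, mul_one, hc, Nat.card_congr f.toEquiv] at h1
  rw [h1]
  congr 1
  exact Cfsg.Agent.SporadicA.M24Trans.card_M24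

/-- an extension of degree two of a group without outer automorphisms contains an element centralizing it -/
theorem exists_cent_two {K M : Subgroup G} [IsSimpleGroup K] (hKM : K ≤ M)
    (hn : M ≤ normalizer (K : Set G)) (hc : Nat.card M = 2 * Nat.card K)
    (hin : ∀ α : MulAut K, ∃ k : K, ∀ x, α x = k * x * k⁻¹) : ∃ c ∈ centralizer (K : Set G), c ≠ 1 := by
  obtain ⟨m, hm, hmK⟩ : ∃ m ∈ M, m ∉ K := by
    by_contra h0
    push Not at h0
    have h1 := Subgroup.card_le_of_le (fun x hx => h0 x hx : M ≤ K)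
    have h2 : 0 < Nat.card K := Nat.card_pos
    omega
  obtain ⟨k, hk⟩ := hin (K.normalizerMonoidHom ⟨m, hn hm⟩)
  refine ⟨(k : G)⁻¹ * m, ?_, fun h1 => hmK ?_⟩
  · rw [mem_centralizer_iff]
    intro y hy
    have h1 : m * y * m⁻¹ = (k : G) * y * (k : G)⁻¹ := congrArg Subtype.val (hk ⟨y, hy⟩)
    have h2 : (k : G)⁻¹ * m * y = (k : G)⁻¹ * (m * y * m⁻¹) * m := by group
    rw [h2, h1]
    group
  · have h2 : m = (k : G) := by
      rw [← mul_left_cancel_iff (a := (k : G)⁻¹), h1, inv_mul_cancel]
    rw [h2]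
    exact k.2

theorem ords_23 : ∀ n ∈ ords, 23 ∣ n → n = 6072 ∨ n = 10200960 ∨ n = 244823040 ∨ n = nJ := by decide +kernel

theorem names_m23 : ∀ x ∈ names, x.2 = 10200960 → x.1 = Grp.m23 := by decide +kernel
theorem names_m24 : ∀ x ∈ names, x.2 = 244823040 → x.1 = Grp.m24 := by decide +kernel

/-- **`PGL₂(23)` is a maximal subgroup** -/
theorem part_d [IsSimpleGroup G] (hG : ¬ IsMulCommutative G) (hJ : Cfsg.IsOfJankoFourType G) (F : Facts G)
    (e : Cfsg.Spor.J4 ≃* G) :
    ∃ M : Subgroup G, IsCoatom M ∧ Nonempty (↥M ≃* GL (Fin 2) (ZMod 23) ⧸ Subgroup.center (GL (Fin 2) (ZMod 23))) := by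
  have hp : Nat.Prime 23 := by norm_num
  have f23 : Fact (Nat.Prime 23) := ⟨hp⟩
  obtain ⟨L, -, -, -, ⟨f⟩⟩ := Cfsg.Agent.H859.PGLWords.exists_pgl
  set X := L.map e.toMonoidHom with hX
  have fX : X ≃* GL (Fin 2) (ZMod 23) ⧸ Subgroup.center (GL (Fin 2) (ZMod 23)) :=
    (L.equivMapOfInjective e.toMonoidHom e.injective).symm.trans f
  have hXc : Nat.card X = 12144 := by
    rw [Nat.card_congr fX.toEquiv, Cfsg.Agent.H397.ZAut.card_pgl, ZMod.card]
    norm_num
  have hXt : X ≠ ⊤ := by
    intro h0
    rw [h0, Subgroup.card_top, F.card] at hXc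
    norm_num [nJ] at hXc
  obtain ⟨M, hM, hXM⟩ := (eq_top_or_exists_le_coatom X).resolve_left hXt
  -- the subgroup of order 23
  obtain ⟨y, hy⟩ := exists_prime_orderOf_dvd_card' (G := X) 23 (by rw [hXc]; norm_num)
  set P := zpowers (y : G) with hPdef
  have hP : Nat.card P = 23 := by rw [hPdef, Nat.card_zpowers, Subgroup.orderOf_coe, hy]
  have hPX : P ≤ X := by rw [hPdef, zpowers_le]; exact y.2
  obtain ⟨hC0, hN⟩ := transfer e (fun P hP => Cfsg.Agent.H859.BigNum.data23 hP) hP
  have hC := cent_le hp hP hC0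
  have hPM : P ≤ M := hPX.trans hXM
  have hcardM : 12144 ≤ Nat.card M := hXc ▸ Subgroup.card_le_of_le hXM
  have hMN : ¬ M ≤ normalizer (P : Set G) := by
    intro h0
    have h1 := Subgroup.card_le_of_le h0
    rw [hN] at h1
    omega
  have hPg : IsPGroup 23 P := IsPGroup.of_card (n := 1) (by rw [hP, pow_one])
  have hsyl : ∀ Y : Subgroup G, P ≤ Y → IsSyl 23 P Y := fun Y hY => by
    refine ⟨hY, hPg, fun h => ?_⟩
    have h1 := card_mul_relIndex hY
    obtain ⟨c, hc⟩ := h
    have h2 : 23 ^ 2 ∣ Nat.card Y := ⟨c, by rw [← h1, hP, hc]; ring⟩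
    have h3 := h2.trans (F.dvd Y)
    norm_num [nJ] at h3
  -- the normalizer of `P` lies in `X`
  have hNX : normalizer (P : Set G) ≤ X := by
    obtain ⟨m, hm, he⟩ := sylow_mod (hsyl X hPX)
    rw [hXc] at he
    have h9 : Nat.card (normalizer (P : Set G) ⊓ X : Subgroup G) ∣ 506 := by
      have := Subgroup.card_dvd_of_le (inf_le_left : normalizer (P : Set G) ⊓ X ≤ normalizer (P : Set G))
      rwa [hN] at this
    have h10 : ∀ d ∈ Nat.divisors 506, d ∣ 12144 → (12144 / d) % 23 = 1 → d = 506 := by decide +kernel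
    have h11 := solve_mod h10 (by norm_num) h9 hm he
    have h12 : normalizer (P : Set G) ⊓ X = normalizer (P : Set G) :=
      Subgroup.eq_of_le_of_card_ge inf_le_left (by rw [h11, hN])
    exact inf_eq_left.1 h12
  have hNM : normalizer (P : Set G) ≤ M := hNX.trans hXM
  rcases F.base.over hp goodC_23 hP hC hPM hMN with
    ⟨R, hRM, hRn, hR, -, j, hj1, hj2, hj3, hj4⟩ | ⟨K, hK, hKn, h1, h2, h3, h4, h5, h6⟩
  · exfalso
    have hj : j = 11 := by
      have : ∀ j < 12, 1 ≤ j → 2 ^ j % 23 = 1 → j = 11 := by decide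
      exact this j (by omega) hj1 hj3
    rw [hj] at hj4
    have h7 := card_NV hG hJ hR hj4
    obtain ⟨m, hm, he⟩ := sylow_mod (hsyl (normalizer (R : Set G)) (hPM.trans hRn))
    rw [inf_eq_left.2 (hNM.trans hRn), hN, h7] at he
    omega
  · have h7 : Nat.card K ≠ nJ := fun h0 => hM.1 (top_le_iff.1 (F.eq_top h0 ▸ hK))
    have h8 : 23 ∣ Nat.card K := hP ▸ Subgroup.card_dvd_of_le h4
    have hfr := frattini_card hK hKn h5
    rw [inf_eq_left.2 hNM, hN] at hfr
    obtain ⟨m, hm, he⟩ := sylow_mod h5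
    have h9 : Nat.card (normalizer (P : Set G) ⊓ K : Subgroup G) ∣ 506 := by
      have := Subgroup.card_dvd_of_le (inf_le_left : normalizer (P : Set G) ⊓ K ≤ normalizer (P : Set G))
      rwa [hN] at this
    have key : Nat.card K = 10200960 ∨ Nat.card K = 244823040 →
        (∀ α : MulAut K, ∃ k : K, ∀ x, α x = k * x * k⁻¹) → False := by
      intro hc hin
      have h11 : Nat.card (normalizer (P : Set G) ⊓ K : Subgroup G) = 253 := by
        rcases hc with hc | hc
        · rw [hc] at he
          exact solve_mod (n := 506) (p := 23) (a := 253) (by decide +kernel) (by norm_num) h9 hm he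
        · rw [hc] at he
          exact solve_mod (n := 506) (p := 23) (a := 253) (by decide +kernel) (by norm_num) h9 hm he
      rw [h11] at hfr
      obtain ⟨c, hc1, hc2⟩ := exists_cent_two hK hKn (by omega) hin
      have h12 : c ∈ P := hC (Subgroup.centralizer_le h4 hc1)
      have h13 : c ∈ K := h4 h12
      -- the centre of `K` is trivial
      have h14 : (⟨c, h13⟩ : K) ∈ center K := by
        rw [mem_center_iff]
        intro g
        exact Subtype.ext (mem_centralizer_iff.1 hc1 g g.2)
      have h15 : center K = ⊥ := by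
        rcases (inferInstance : (center K).Normal).eq_bot_or_eq_top with h | h
        · exact h
        · exfalso
          apply h2
          intro a b
          exact ((mem_center_iff.1 (h ▸ mem_top a : a ∈ center K)) b).symm
      rw [h15, mem_bot] at h14
      exact hc2 (congrArg Subtype.val h14)
    rcases ords_23 _ h3 h8 with hc | hc | hc | hc
    · have h11 : Nat.card (normalizer (P : Set G) ⊓ K : Subgroup G) = 253 := by
        rw [hc] at he
        exact solve_mod (n := 506) (p := 23) (a := 253) (by decide +kernel) (by norm_num) h9 hm he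
      rw [h11, hc] at hfr
      have h12 : X = M := Subgroup.eq_of_le_of_card_ge hXM (by rw [hXc]; omega)
      exact ⟨M, hM, ⟨(MulEquiv.subgroupCongr h12).symm.trans fX⟩⟩
    · exfalso
      refine key (Or.inl hc) ?_
      obtain ⟨x, hx, hr, hcx⟩ := exists_name F.tab (F.known K) h2 (F.dvd K)
      have h12 := names_m23 x hx (hcx ▸ hc)
      rw [h12] at hr
      intro α
      exact Cfsg.Agent.KFacts.M23.OutOne.exists_conj' hr α
    · exfalso
      refine key (Or.inr hc) ?_
      obtain ⟨x, hx, hr, hcx⟩ := exists_name F.tab (F.known K) h2 (F.dvd K)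
      have h12 := names_m24 x hx (hcx ▸ hc)
      rw [h12] at hr
      obtain ⟨g⟩ := (hr : Spor.IsoM24 K)
      intro α
      obtain ⟨k, hk⟩ := Cfsg.Agent.KFacts.M24Two.Out.exists_conj ((MulAut.congr g) α)
      refine ⟨g.symm k, fun x => ?_⟩
      apply g.injective
      have h13 := congrArg (fun f : MulAut _ => f (g x)) hk
      simpa only [MulAut.congr, _root_.map_mul, _root_.MulEquiv.apply_symm_apply, _root_.map_inv, _root_.MulEquiv.coe_mk, _root_.Equiv.coe_fn_mk, _root_.MulEquiv.trans_apply, _root_.MulEquiv.symm_apply_apply, _root_.MulAut.conj_apply] using h13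
    · exact absurd hc h7

end Cfsg.Agent.H860.MaxPGL
end

-- part: H860/L32Data
section
/-!
# A proper subgroup of `J4` with elements of orders 5, 11 and 31 (helper860)

The elements `e = (x y t y) ^ 7` of order 5 and `s = x ^ u` preserve a subspace of dimension 20 of the module of
dimension 112 over the field of two elements (words of helper935).  The subspace is given by an idempotent `E`.
-/

set_option autoImplicit false

open Cfsg

namespace Cfsg.Agent.H860.L32Data

open Cfsg.Agent.Lib Cfsg.Agent.Lib.F2MatGroup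
open Cfsg.Agent.J4.Rep112
open Cfsg.Agent.H858.VK

/-- the program: `a = x y t y`, `e = a ^ 7`, `u`, `u⁻¹`, `s = u⁻¹ x u`, `w31`, `w11` -/
def slp : List (List ℕ) := [[0, 1, 3, 1], [0, 0, 0, 0, 0, 0, 0], [2, 3, 2, 5, 3, 5, 3, 5, 4, 2, 2, 4, 5, 3, 2, 4, 2, 5, 4, 5, 3], [5, 6, 4, 6, 3, 4, 3, 5, 6, 4, 3, 3, 4, 6, 5, 6, 5, 6, 3, 5, 3], [0, 4, 1], [3, 3, 0, 3, 3, 3, 0], [4, 1, 4, 1, 4, 1, 4, 4, 1]]

/-- the equations -/
def es : List (List ℕ × List ℕ) :=
  [(List.replicate 11 0, []), (List.replicate 31 1, []), (List.replicate 5 5, [])]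

/-- the inequations -/
def ns : List (List ℕ × List ℕ) := [([0], []), ([1], []), ([5], [])]

/-- the idempotent matrix -/
def E : ℕ :=
  0x80000b056f839d17a23d25f94f54400000897e4ee11fea27fdfcdbf62001095d0e50ef318f9ff2c4fc0110000a7ccf998d691655e86a97f308010bcfc9a63f12fad262816d1904000afafeaf3999c21cbb464fad020100f6aa7700ca424c0f0f394e010100f780bc59bd936e9452f716008000773b28fd0854976afcc14e004000497495618645ba3401f0ce002108fcb3a138d7df7950c871e3001103342d87d21fa83879c3ba41000909d0f522b5c5e29445fbe1ec00050b5375610a197d72eec99509000209e485357e961892f9fa66080000000000000000000000000000000089d6902ebfe481fe190a1882000042d0916b2c8a067d503557fe00002aa4738755d08f99594d70f700001aa225831f713cf8743f92c30000000000000000000000000000000005067b105ccf1a471e9d1b3a0000000000000000000000000000000000000000000000000000000000000000000000000000000000000000000000000000000000000000000000000000000000000000000000000000000000000000000000000000000000000000000000000000000000000000000000000000000000000000000000000000000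00000000000000000000000000000000000000000000000000000000000000000000000000000000000000000000000000000000000000000000000000000000000000000000000000000000000000000000000000000000000000000000000000000000000000000000000000000000000000000000000000000000000000000000000000000000000000000000000000000000000000000000000000000000000000000000000000000000000000000000000000000000000000000000000000000000000000000000000000000000000000000000000000000000000000000000000000000000000000000000000000000000000000000000000000000000000000000000000000000000000000000000000000000000000000000000000000000000000000000000000000000000000000000000000000000000000000000000000000000000000000000000000000000000000000000000000000000000000000000000000000000000000000000000000000000000000000000000000000000000000000000000000000000000000000000000000000000000000000000000000000000000000000000000000000000000000000000000000000000000000000000000000000000000000000000000000000000000000000000000000000000000000000000000000000000000000000000000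000000000000000000000000000000000000000000000000000000000000000000000000000000000000000000000000000000000000000000000000000000000000000000000000000000000000000000000000000000000000000000000000000000000000000000000000000000000000000000000000000000000000000000000000000000000000000000000000000000000000000000000000000000000000000000000000000000000000000000000000000000000000000000000000000000000000000000000000000000000000000000000000000000000000000000000000000000000000000000000000000000000000000000000000000000000000000000000000000000000000000000000000000000000000000000000000000000000000000000000000000000000000000000000000000000000000000000000000000000000000000000000000000000000000000000000000000000000000000000000000000000000000000000000000000000000000000000000000000000000000000000000000000000000000000000000000000000000000000000000000000000000000000000000000000000000000000000000000000000000000000000000000000000000000000000000000000000000000000000000000000000000000000000000000000000000000000000000000000000000000000000000000000000000000000000000000000000000000000000000000000000000000000000000000000000000000000000000000000000000000000000000000000000000000000000000000000000000000000000000000000000000000000000000000000000000000000000000000000000000000000000000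

/-- `E A = E A E` -/
def keep (A : ℕ) : Bool := Nat.beq (F2Mat.mul 112 E A) (F2Mat.mul 112 (F2Mat.mul 112 E A) E)

/-- the check of the subspace -/
def vchk (L : List ℕ) : Bool :=
  keep (get (F2Mat.one 112) L 5) && keep (get (F2Mat.one 112) L 2) && !(keep (get (F2Mat.one 112) L 7)) &&
    keep (F2Mat.one 112)

theorem check : run 112 slp codes
    (fun L => cond (eqs 112 es L) (cond (neqs 112 ns L) (vchk L) false) false) = true := by decide +kernel

/-- the environment: `w11, w31, s, u⁻¹, u, e, a, x, y, y⁻¹, t` -/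
noncomputable def LX : List Cfsg.Spor.J4 := runG slp gens

/-- the elements -/
noncomputable def w11 : Cfsg.Spor.J4 := getG LX 0
noncomputable def w31 : Cfsg.Spor.J4 := getG LX 1
noncomputable def s : Cfsg.Spor.J4 := getG LX 2
noncomputable def e : Cfsg.Spor.J4 := getG LX 5

/-- `b` preserves the subspace -/
def Keeps (b : Cfsg.Spor.J4) : Prop :=
  F2Mat.toMat 112 E * ((rho b : GL (Fin 112) (ZMod 2)) : Matrix (Fin 112) (Fin 112) (ZMod 2)) =
    F2Mat.toMat 112 E * ((rho b : GL (Fin 112) (ZMod 2)) : Matrix (Fin 112) (Fin 112) (ZMod 2)) *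
      F2Mat.toMat 112 E

theorem map_LX : LX.map rho = runG slp (gens.map rho) := by
  unfold LX
  rw [runG_map]

theorem keep_iff {b : Cfsg.Spor.J4} {A : ℕ} (h : Codes 112 (rho b) A) : keep A = true ↔ Keeps b := by
  unfold Codes at h
  unfold keep Keeps
  rw [h, ← F2Mat.toMat_mul, ← F2Mat.toMat_mul]
  constructor
  · intro h1
    exact congrArg (F2Mat.toMat 112) (Nat.eq_of_beq_eq_true h1)
  · intro h1
    have h2 := F2Mat.toMat_inj (F2Mat.mul_lt (by norm_num) _ _) (F2Mat.mul_lt (by norm_num) _ _) h1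
    rw [← h2]
    exact Nat.beq_refl _

theorem sound : (∀ p ∈ es, evG LX p.1 = evG LX p.2) ∧ (∀ p ∈ ns, evG LX p.1 ≠ evG LX p.2) ∧
    Keeps e ∧ Keeps s ∧ ¬ Keeps (getG LX 7) ∧ Keeps 1 := by
  obtain ⟨L', h', hk⟩ := run_sound codes_gens check
  have h'' : List.Forall₂ (Codes 112) (LX.map rho) L' := by rw [map_LX]; exact h'
  rcases hb : eqs 112 es L' with _ | _
  · rw [hb] at hk; exact absurd hk Bool.false_ne_true
  rw [hb] at hk
  rcases hc : neqs 112 ns L' with _ | _
  · rw [hc] at hk; exact absurd hk Bool.false_ne_true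
  rw [hc] at hk
  have hk' : vchk L' = true := hk
  refine ⟨fun p hp => ?_, fun p hp => ?_, ?_⟩
  · apply rho_injective
    rw [← evG_map, ← evG_map]
    exact eqs_sound h'' hb p hp
  · intro h0
    have h1 := congrArg rho h0
    rw [← evG_map, ← evG_map] at h1
    exact neqs_sound (by norm_num) h'' hc p hp h1
  · have key : ∀ i, Codes 112 (rho (getG LX i)) (get (F2Mat.one 112) L' i) := by
      intro i
      have h3 := codes_get h'' i
      rwa [getG_map] at h3
    unfold vchk at hk'
    simp only [Bool.and_eq_true, Bool.not_eq_true'] at hk'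
    obtain ⟨⟨⟨h1, h2⟩, h3⟩, h5⟩ := hk'
    refine ⟨(keep_iff (key 5)).1 h1, (keep_iff (key 2)).1 h2, fun h4 => ?_, ?_⟩
    · rw [(keep_iff (key 7)).2 h4] at h3
      exact absurd h3 (by decide)
    · refine (keep_iff (b := 1) ?_).1 h5
      rw [map_one]
      exact Codes.one 112

theorem evG_rep {G : Type*} [Group G] (L : List G) (n i : ℕ) : evG L (List.replicate n i) = (getG L i) ^ n := by
  induction n with
  | zero => rw [List.replicate_zero, evG_nil, pow_zero]
  | succ n ih => rw [List.replicate_succ, evG_cons, ih, pow_succ']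

theorem order_w11 : orderOf w11 = 11 := by
  have : Fact (Nat.Prime 11) := ⟨by norm_num⟩
  refine orderOf_eq_prime ?_ fun h => ?_
  · have := sound.1 (List.replicate 11 0, []) (by simp [es])
    rwa [evG_rep, evG_nil] at this
  · refine sound.2.1 ([0], []) (by simp [ns]) ?_
    rw [evG_cons, evG_nil, mul_one]
    exact h

theorem order_w31 : orderOf w31 = 31 := by
  have : Fact (Nat.Prime 31) := ⟨by norm_num⟩
  refine orderOf_eq_prime ?_ fun h => ?_
  · have := sound.1 (List.replicate 31 1, []) (by simp [es])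
    rwa [evG_rep, evG_nil] at this
  · refine sound.2.1 ([1], []) (by simp [ns]) ?_
    rw [evG_cons, evG_nil, mul_one]
    exact h

theorem order_e : orderOf e = 5 := by
  have : Fact (Nat.Prime 5) := ⟨by norm_num⟩
  refine orderOf_eq_prime ?_ fun h => ?_
  · have := sound.1 (List.replicate 5 5, []) (by simp [es])
    rwa [evG_rep, evG_nil] at this
  · refine sound.2.1 ([5], []) (by simp [ns]) ?_
    rw [evG_cons, evG_nil, mul_one]
    exact h

theorem Keeps.mul {a b : Cfsg.Spor.J4} (ha : Keeps a) (hb : Keeps b) : Keeps (a * b) := by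
  unfold Keeps at *
  rw [map_mul, Units.val_mul]
  generalize ((rho a : GL (Fin 112) (ZMod 2)) : Matrix (Fin 112) (Fin 112) (ZMod 2)) = A at *
  generalize ((rho b : GL (Fin 112) (ZMod 2)) : Matrix (Fin 112) (Fin 112) (ZMod 2)) = B at *
  generalize F2Mat.toMat 112 E = D at *
  calc D * (A * B) = (D * A) * B := by rw [mul_assoc]
    _ = (D * A * D) * B := by rw [← ha]
    _ = (D * A) * (D * B) := by simp only [mul_assoc]
    _ = (D * A) * (D * B * D) := by rw [← hb]
    _ = (D * A * D) * B * D := by simp only [mul_assoc]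
    _ = (D * A) * B * D := by rw [← ha]
    _ = D * (A * B) * D := by simp only [mul_assoc]

theorem Keeps.pow {a : Cfsg.Spor.J4} (ha : Keeps a) (n : ℕ) : Keeps (a ^ n) := by
  induction n with
  | zero => rw [pow_zero]; exact sound.2.2.2.2.2
  | succ n ih => rw [pow_succ]; exact ih.mul ha

/-- the subgroup generated by `e` and `s` -/
noncomputable def S : Subgroup Cfsg.Spor.J4 := Subgroup.closure {e, s}

theorem e_mem : e ∈ S := Subgroup.subset_closure (by simp)
theorem s_mem : s ∈ S := Subgroup.subset_closure (by simp)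

theorem keeps_of_mem {a : Cfsg.Spor.J4} (ha : a ∈ S) : Keeps a := by
  have hf : Finite Cfsg.Spor.J4 := inferInstance
  induction ha using Subgroup.closure_induction with
  | mem x hx =>
    rcases hx with rfl | hx
    · exact sound.2.2.1
    · rw [Set.mem_singleton_iff] at hx
      rw [hx]
      exact sound.2.2.2.1
  | one => exact sound.2.2.2.2.2
  | mul x y _ _ hx hy => exact hx.mul hy
  | inv x _ hx =>
    have h1 : x⁻¹ = x ^ (orderOf x - 1) := by
      rw [inv_eq_iff_mul_eq_one, ← pow_succ', Nat.sub_add_cancel (orderOf_pos x), pow_orderOf_eq_one]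
    rw [h1]
    exact hx.pow _

theorem S_ne : S ≠ ⊤ := fun h0 =>
  sound.2.2.2.2.1 (keeps_of_mem (h0 ▸ Subgroup.mem_top (getG LX 7)))

theorem w31_mem : w31 ∈ S := by
  have h : w31 = e * (e * (s * (e * (e * (e * (s * 1)))))) := rfl
  rw [h]
  have h1 := e_mem
  have h2 := s_mem
  exact S.mul_mem h1 (S.mul_mem h1 (S.mul_mem h2 (S.mul_mem h1 (S.mul_mem h1 (S.mul_mem h1 (S.mul_mem h2 S.one_mem))))))

theorem w11_mem : w11 ∈ S := by
  have h : w11 = e * (s * (e * (s * (e * (s * (e * (e * (s * 1)))))))) := rfl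
  rw [h]
  have h1 := e_mem
  have h2 := s_mem
  exact S.mul_mem h1 (S.mul_mem h2 (S.mul_mem h1 (S.mul_mem h2 (S.mul_mem h1 (S.mul_mem h2 (S.mul_mem h1
    (S.mul_mem h1 (S.mul_mem h2 S.one_mem))))))))

end Cfsg.Agent.H860.L32Data
end

-- part: H860/MaxL32
section
/-!
# The maximal subgroup `L₂(32) : 5` of `J4` (helper860)
-/

set_option autoImplicit false

namespace Cfsg.Agent.H860.MaxL32

open Cfsg Subgroup Pointwise
open Cfsg.Agent.OrdDiv
open Cfsg.Agent.H866.J4Ord Cfsg.Agent.H866.J4Min Cfsg.Agent.H866.OddTools Cfsg.Agent.H866.J4Odd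
open Cfsg.Agent.OddOrderLocal.SylIn Cfsg.Agent.OddOrderLocal
open Cfsg.Agent.H860.MaxBase Cfsg.Agent.H860.MaxPGL
open Cfsg.Agent.H858.NormC (centralizer_zpowers)

universe u

/-! ### 2-groups centralizing an element of order 11 -/

theorem two_le_J {w : Cfsg.Spor.J4} (hw : orderOf w = 11) {D : Subgroup Cfsg.Spor.J4} (hD : IsPGroup 2 D)
    (hc : D ≤ centralizer ({w} : Set Cfsg.Spor.J4)) : Nat.card D ≤ 16 := by
  have : Fact (Nat.Prime 2) := ⟨Nat.prime_two⟩
  obtain ⟨i, hi⟩ := IsPGroup.iff_card.1 hD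
  have h1 : Nat.card D ∣ Nat.card (centralizer ({w} : Set Cfsg.Spor.J4)) := Subgroup.card_dvd_of_le hc
  have h2 : i ≤ 4 := by
    rcases Cfsg.Agent.H859.ClassEleven.isConj_or hw with h | h
    · rw [Cfsg.Agent.H859.ClassEleven.card_centralizer_conj h] at h1
      have h3 := Cfsg.Agent.H859.SylEleven.card_centralizer_x
      have h4 : 11 ∣ Nat.card (centralizer ({Cfsg.Agent.H859.SylEleven.x} : Set Cfsg.Spor.J4)) := by
        rw [← Cfsg.Agent.H859.ClassEleven.orderOf_x, ← Nat.card_zpowers]
        refine Subgroup.card_dvd_of_le ?_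
        rw [zpowers_le, mem_centralizer_singleton_iff]
      have h5 : 11 * 2 ^ i ∣ Nat.card (centralizer ({Cfsg.Agent.H859.SylEleven.x} : Set Cfsg.Spor.J4)) := by
        refine Nat.Coprime.mul_dvd_of_dvd_of_dvd ?_ h4 (hi ▸ h1)
        exact Nat.Coprime.pow_right i (by norm_num)
      have h6 := (Nat.le_of_dvd Nat.card_pos h5).trans h3
      by_contra h7
      have h8 : 2 ^ 5 ≤ 2 ^ i := Nat.pow_le_pow_right (by norm_num) (by omega)
      omega
    · rw [Cfsg.Agent.H859.ClassEleven.card_centralizer_conj h] at h1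
      have h3 : Nat.card (centralizer ({Cfsg.Agent.H859.NU.c} : Set Cfsg.Spor.J4)) ∣ 2 ^ 4 * 3 * 5 * 11 ^ 3 := by
        rw [← Cfsg.Agent.H859.SylEleven.card_N]
        refine Subgroup.card_dvd_of_le (le_trans ?_ Cfsg.Agent.H859.CentC.normalizer_c_le)
        rw [← centralizer_zpowers]
        exact Subgroup.centralizer_le_normalizer _
      have h4 : 2 ^ i ∣ 2 ^ 4 * (3 * 5 * 11 ^ 3) := by
        rw [← hi, ← mul_assoc, ← mul_assoc]
        exact h1.trans h3
      have h5 : 2 ^ i ∣ 2 ^ 4 := Nat.Coprime.dvd_of_dvd_mul_right (Nat.Coprime.pow_left i (by norm_num)) h4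
      exact (Nat.pow_dvd_pow_iff_le_right (by norm_num)).1 h5
  rw [hi]
  exact Nat.pow_le_pow_right (by norm_num) h2

variable {G : Type u} [Group G] [Finite G]

theorem two_le (e : Cfsg.Spor.J4 ≃* G) {w : G} (hw : orderOf w = 11) {D : Subgroup G} (hD : IsPGroup 2 D)
    (hc : D ≤ centralizer ({w} : Set G)) : Nat.card D ≤ 16 := by
  rw [← Cfsg.Agent.H859.Transfer.card_map e.symm D]
  refine two_le_J (w := e.symm w) (by rw [MulEquiv.orderOf_eq, hw]) (hD.map _) ?_
  rintro _ ⟨d, hd, rfl⟩
  rw [mem_centralizer_singleton_iff]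
  have h1 := mem_centralizer_singleton_iff.1 (hc hd)
  show e.symm d * e.symm w = e.symm w * e.symm d
  rw [← map_mul, h1, map_mul]

/-! ### The order of a subgroup on which `P` acts fixed-point-freely -/

theorem factorization_mod {p : ℕ} [Fact p.Prime] {U K : Subgroup G} (hU : IsPGroup p U)
    (hn : U ≤ normalizer (K : Set G)) (hpK : ¬ p ∣ Nat.card K) (hc : K ⊓ centralizer (U : Set G) = ⊥) {q : ℕ}
    (hq : q.Prime) : q ^ (Nat.card K).factorization q % p = 1 := by
  have : Fact q.Prime := ⟨hq⟩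
  obtain ⟨Q, hQ⟩ := Lib.CoprimeHyperplane.exists_invariant_sylow hU hn hpK q
  have h1 : Nat.card ((Q : Subgroup K).map K.subtype : Subgroup G) = q ^ (Nat.card K).factorization q := by
    rw [Subgroup.card_map_of_injective K.subtype_injective, Q.card_eq_multiplicity]
  rw [← h1]
  refine card_mod_one hU hQ ?_
  rw [eq_bot_iff, ← hc]
  exact inf_le_inf_right _ (Subgroup.map_subtype_le _)

theorem okC_31 : okC 31 = true := by decide +kernel

/-- a subgroup on which a subgroup of order 31 acts fixed-point-freely is a 2-group -/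
theorem card_two (F : Base G) {P C : Subgroup G} (hP : Nat.card P = 31) (hn : P ≤ normalizer (C : Set G))
    (hc : C ⊓ centralizer (P : Set G) = ⊥) : ∃ k, Nat.card C = 2 ^ k ∧ 2 ^ k % 31 = 1 := by
  have hp : Nat.Prime 31 := by norm_num
  have : Fact (Nat.Prime 31) := ⟨hp⟩
  have hPg : IsPGroup 31 P := IsPGroup.of_card (n := 1) (by rw [hP, pow_one])
  have h0 := card_mod_one hPg hn hc
  have h31 : ¬ 31 ∣ Nat.card C := by
    intro h
    rw [Nat.mod_eq_zero_of_dvd h] at h0
    exact absurd h0 (by norm_num)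
  have key : ∀ q, q.Prime → q ≠ 2 → (Nat.card C).factorization q = 0 := by
    intro q hq hq2
    by_contra h1
    have h2 : q ^ (Nat.card C).factorization q ∣ nJ := (Nat.ordProj_dvd _ _).trans (F.dvd C)
    obtain ⟨k, hk, hjk⟩ := exists_pair valid_lJ hq (Nat.pos_of_ne_zero h1) h2
    refine okC_spec okC_31 hk (Nat.pos_of_ne_zero h1) hjk hq2 ?_ (factorization_mod hPg hn h31 hc hq)
    rintro rfl
    exact h1 (Nat.factorization_eq_zero_of_not_dvd h31)
  refine ⟨(Nat.card C).factorization 2, ?_, factorization_mod hPg hn h31 hc Nat.prime_two⟩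
  have h3 : (Nat.card C).factorization = Finsupp.single 2 ((Nat.card C).factorization 2) := by
    ext q
    by_cases hq : q.Prime
    · by_cases hq2 : q = 2
      · rw [hq2, Finsupp.single_eq_same]
      · rw [key q hq hq2, Finsupp.single_eq_of_ne hq2]
    · have hq2 : q ≠ 2 := fun h => hq (h ▸ Nat.prime_two)
      rw [Nat.factorization_eq_zero_of_not_prime _ hq, Finsupp.single_eq_of_ne hq2]
  exact Nat.eq_pow_of_factorization_eq_single Nat.card_pos.ne' h3

theorem five_dvd {k : ℕ} (hk : 2 ^ k % 31 = 1) (h : k ≤ 21) : k = 0 ∨ k = 5 ∨ k = 10 ∨ k = 15 ∨ k = 20 := by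
  have : ∀ k < 22, 2 ^ k % 31 = 1 → k = 0 ∨ k = 5 ∨ k = 10 ∨ k = 15 ∨ k = 20 := by decide
  exact this k (by omega) hk

theorem ten_of {i j : ℕ} (h : 2 ^ j % 11 = 10) (h2 : 2 ^ i % 11 = 2 ^ j % 11) : 5 ≤ i := by
  by_contra h0
  rw [h] at h2
  have : ∀ i < 5, 2 ^ i % 11 ≠ 10 := by decide
  exact this i (by omega) h2

theorem card_cent_ten [IsSimpleGroup G] (hG : ¬ IsMulCommutative G) (hJ : Cfsg.IsOfJankoFourType G) {A : Subgroup G}
    (hA : IsElementaryAbelian 2 A) (hc : Nat.card A = 2 ^ 10) (hs : centralizer (A : Set G) = A) :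
    Nat.card (normalizer (A : Set G)) = 9999360 * 2 ^ 10 := by
  obtain ⟨⟨K, hK1, hK2, hK3, ⟨f⟩⟩, -⟩ := (Cfsg.Agent.S5570.result hG hJ).2.2 A hA hc hs
  have h1 := Cfsg.Agent.StdL2.G23Coset.card_sup_mul_card_inf hK1
  rw [hK3, hK2, Subgroup.card_bot, mul_one, hc, Nat.card_congr f.toEquiv, Cfsg.Agent.H821.SLTwo.card_five] at h1
  exact h1

theorem isPGroup_of_ea {R : Subgroup G} (h : IsElementaryAbelian 2 R) : IsPGroup 2 R :=
  fun x => ⟨1, by rw [pow_one]; exact Subtype.ext (h.2 x x.2)⟩

theorem le_cent_of_ea {R : Subgroup G} (h : IsElementaryAbelian 2 R) : R ≤ centralizer (R : Set G) := by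
  intro x hx
  rw [mem_centralizer_iff]
  intro y hy
  exact congrArg Subtype.val (h.1.is_comm.comm ⟨y, hy⟩ ⟨x, hx⟩)

theorem normalizer_le_normalizer_cent {R : Subgroup G} :
    normalizer (R : Set G) ≤ normalizer ((centralizer (R : Set G) : Subgroup G) : Set G) := by
  have key : ∀ x ∈ normalizer (R : Set G), ∀ y ∈ centralizer (R : Set G), x * y * x⁻¹ ∈ centralizer (R : Set G) := by
    intro x hx y hy
    rw [mem_centralizer_iff] at hy ⊢
    intro r hr
    have h1 : x⁻¹ * r * x ∈ R := by
      have := (mem_normalizer_iff.1 ((normalizer (R : Set G)).inv_mem hx) r).1 hr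
      rwa [inv_inv] at this
    have h2 := hy _ h1
    calc r * (x * y * x⁻¹) = x * (x⁻¹ * r * x * y) * x⁻¹ := by group
      _ = x * (y * (x⁻¹ * r * x)) * x⁻¹ := by rw [h2]
      _ = x * y * x⁻¹ * r := by group
  intro x hx
  rw [mem_normalizer_iff]
  intro y
  refine ⟨key x hx y, fun h => ?_⟩
  have h1 := key x⁻¹ ((normalizer (R : Set G)).inv_mem hx) _ h
  have h2 : x⁻¹ * (x * y * x⁻¹) * x⁻¹⁻¹ = y := by group
  rwa [h2] at h1

/-- **no 2-local subgroup of `J4` contains elements of order 31 and 11** -/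
theorem not_two_local [IsSimpleGroup G] (hG : ¬ IsMulCommutative G) (hJ : Cfsg.IsOfJankoFourType G) (F : Base G)
    (e : Cfsg.Spor.J4 ≃* G) {P : Subgroup G} (hP : Nat.card P = 31) (hC : centralizer (P : Set G) ≤ P) {u : G}
    (hu : orderOf u = 11) {R : Subgroup G} (hR : IsElementaryAbelian 2 R) (hPR : P ≤ normalizer (R : Set G))
    (huR : u ∈ normalizer (R : Set G)) (hRP : R ⊓ centralizer (P : Set G) = ⊥) {j : ℕ} (hj1 : 1 ≤ j) (hj2 : j ≤ 11)
    (hj : Nat.card R = 2 ^ j) : False := by
  have hp : Nat.Prime 31 := by norm_num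
  have f31 : Fact (Nat.Prime 31) := ⟨hp⟩
  have f11 : Fact (Nat.Prime 11) := ⟨by norm_num⟩
  have f2 : Fact (Nat.Prime 2) := ⟨Nat.prime_two⟩
  have hPg : IsPGroup 31 P := IsPGroup.of_card (n := 1) (by rw [hP, pow_one])
  set C := centralizer (R : Set G) with hCdef
  have hNC : normalizer (R : Set G) ≤ normalizer (C : Set G) := normalizer_le_normalizer_cent
  have hRC : R ≤ C := le_cent_of_ea hR
  -- `C ∩ P = 1`
  have hR1 : R ≠ ⊥ := by
    rintro rfl
    rw [Subgroup.card_bot] at hj
    have := Nat.one_lt_two_pow (n := j) (by omega)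
    omega
  have hPC : P ⊓ C = ⊥ := by
    have h1 := Subgroup.card_dvd_of_le (inf_le_left : P ⊓ C ≤ P)
    rw [hP] at h1
    rcases (Nat.dvd_prime hp).1 h1 with h2 | h2
    · exact Subgroup.card_eq_one.1 h2
    · exfalso
      have h3 : P ≤ C := inf_eq_left.1 (Subgroup.eq_of_le_of_card_ge inf_le_left (by rw [hP, h2]))
      apply hR1
      rw [eq_bot_iff, ← hRP]
      refine le_inf le_rfl ?_
      rw [Subgroup.le_centralizer_iff]
      exact h3
  have hCP : C ⊓ centralizer (P : Set G) = ⊥ := by
    rw [eq_bot_iff, ← hPC, inf_comm P C]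
    exact inf_le_inf_left _ hC
  obtain ⟨k, hk, hk31⟩ := card_two F hP (hPR.trans hNC) hCP
  have hk21 : k ≤ 21 := by
    have h1 : 2 ^ k ∣ 2 ^ 21 * (3 ^ 3 * 5 * 7 * 11 ^ 3 * 23 * 29 * 31 * 37 * 43) := by
      have := hk ▸ F.dvd C
      rw [nJ_eq] at this
      simpa only [mul_assoc] using this
    have h2 : 2 ^ k ∣ 2 ^ 21 := Nat.Coprime.dvd_of_dvd_mul_right (Nat.Coprime.pow_left k (by norm_num)) h1
    exact (Nat.pow_dvd_pow_iff_le_right (by norm_num)).1 h2
  have hCg : IsPGroup 2 C := IsPGroup.of_card hk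
  have huC : u ∉ C := by
    intro h
    obtain ⟨m, hm⟩ := hCg ⟨u, h⟩
    have h1 : u ^ 2 ^ m = 1 := congrArg Subtype.val hm
    have h2 := orderOf_dvd_of_pow_eq_one h1
    rw [hu] at h2
    have h3 := (Nat.Prime.dvd_of_dvd_pow (by norm_num) h2 : 11 ∣ 2)
    norm_num at h3
  -- the action of `u`
  have hUg : IsPGroup 11 (zpowers u) := IsPGroup.of_card (n := 1) (by rw [Nat.card_zpowers, hu, pow_one])
  have hu16 : ∀ D : Subgroup G, IsPGroup 2 D → zpowers u ≤ normalizer (D : Set G) → ∀ i : ℕ, Nat.card D = 2 ^ i →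
      2 ^ i % 11 ≠ 10 := by
    intro D hD hn i hi h10
    have h1 := card_mod hUg hn
    have h2 : IsPGroup 2 (D ⊓ centralizer ((zpowers u : Subgroup G) : Set G) : Subgroup G) :=
      hD.to_le inf_le_left
    obtain ⟨l, hl⟩ := IsPGroup.iff_card.1 h2
    rw [hi, hl] at h1
    have h3 := ten_of h10 (h1.symm : 2 ^ l % 11 = 2 ^ i % 11)
    have h4 := two_le e hu h2 (by rw [centralizer_zpowers]; exact inf_le_right)
    rw [hl] at h4
    have h5 : 2 ^ 5 ≤ 2 ^ l := Nat.pow_le_pow_right (by norm_num) h3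
    omega
  have hun : zpowers u ≤ normalizer (R : Set G) := by rw [zpowers_le]; exact huR
  have hjk : j ≤ k := by
    have h1 := Subgroup.card_le_of_le hRC
    rw [hj, hk] at h1
    exact (Nat.pow_le_pow_iff_right (by norm_num)).1 h1
  have hj31 : 2 ^ j % 31 = 1 := by
    rw [← hj]
    exact card_mod_one hPg hPR hRP
  have hj5 : j = 5 ∨ j = 10 := by
    have h1 := five_dvd hj31 (by omega)
    omega
  rcases hj5 with rfl | rfl
  · exact hu16 R (isPGroup_of_ea hR) hun 5 hj (by norm_num)
  have hk5 : k = 10 ∨ k = 15 ∨ k = 20 := by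
    have h1 := five_dvd hk31 (by omega)
    (clear * - hjk h1; omega)
  rcases hk5 with rfl | rfl | rfl
  · -- self-centralizing
    have h1 : C = R := (Subgroup.eq_of_le_of_card_ge hRC (by rw [hk, hj])).symm
    have h2 := card_cent_ten hG hJ hR hj h1
    have h3 : 11 ∣ Nat.card (normalizer (R : Set G)) := by
      rw [← hu, ← Nat.card_zpowers]
      exact Subgroup.card_dvd_of_le hun
    rw [h2] at h3
    norm_num at h3
  · exact hu16 C hCg (hun.trans hNC) 15 hk (by norm_num)
  · -- `|C| = 2 ^ 20`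
    obtain ⟨T, hT⟩ := hCg.exists_le_sylow
    obtain ⟨V, ⟨hVT, hV, hVc⟩, hVu⟩ := Cfsg.Agent.S5566.result hG hJ T
    have hVC : ¬ V ≤ C := by
      intro h0
      have h1 : P ≤ normalizer (V : Set G) := by
        have h2 : ∀ x ∈ P, V.map (MulAut.conj x).toMonoidHom = V := by
          intro x hx
          have hle : V.map (MulAut.conj x).toMonoidHom ≤ C := by
            rintro _ ⟨v, hv, rfl⟩
            exact (mem_normalizer_iff.1 (hNC (hPR hx)) v).1 (h0 hv)
          refine hVu _ ⟨hle.trans hT, ⟨⟨⟨?_⟩⟩, ?_⟩, ?_⟩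
          · rintro ⟨_, a, ha, rfl⟩ ⟨_, b, hb, rfl⟩
            apply Subtype.ext
            have h3 : a * b = b * a := congrArg Subtype.val (hV.1.is_comm.comm ⟨a, ha⟩ ⟨b, hb⟩)
            show (MulAut.conj x) a * (MulAut.conj x) b = (MulAut.conj x) b * (MulAut.conj x) a
            rw [← map_mul, h3, map_mul]
          · rintro _ ⟨a, ha, rfl⟩
            show ((MulAut.conj x) a) ^ 2 = 1
            rw [← map_pow, hV.2 a ha, map_one]
          · rw [Subgroup.card_map_of_injective (MulAut.conj x).injective, hVc]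
        intro x hx
        rw [Subgroup.mem_normalizer_iff_map_conj_eq]
        exact h2 x hx
      have h2 : V ⊓ centralizer (P : Set G) = ⊥ := by
        rw [eq_bot_iff, ← hCP]
        exact inf_le_inf_right _ h0
      have h3 := card_mod_one hPg h1 h2
      rw [hVc] at h3
      norm_num at h3
    have hRV : ¬ R ≤ V := fun h0 => hVC ((le_cent_of_ea hV).trans (Subgroup.centralizer_le h0))
    -- `V ∩ C` has index at most two in `V`
    set V0 := V ⊓ C with hV0
    have hTc : Nat.card (T : Subgroup G) ≤ 2 ^ 21 := by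
      obtain ⟨t, ht⟩ := IsPGroup.iff_card.1 T.2
      have h1 : 2 ^ t ∣ 2 ^ 21 * (3 ^ 3 * 5 * 7 * 11 ^ 3 * 23 * 29 * 31 * 37 * 43) := by
        have := ht ▸ F.dvd (T : Subgroup G)
        rw [nJ_eq] at this
        simpa only [mul_assoc] using this
      have h2 : 2 ^ t ∣ 2 ^ 21 := Nat.Coprime.dvd_of_dvd_mul_right (Nat.Coprime.pow_left t (by norm_num)) h1
      rw [ht]
      exact Nat.le_of_dvd (by norm_num) h2
    have h1 : Nat.card V * Nat.card C ≤ Nat.card V0 * 2 ^ 21 := by
      have h2 := Cfsg.Agent.Lib.ProductSet.card_mul_card_inf V C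
      have h3 : Nat.card ((V : Set G) * (C : Set G) : Set G) ≤ Nat.card (T : Subgroup G) := by
        refine Nat.card_mono (Set.toFinite _) ?_
        rintro _ ⟨a, ha, b, hb, rfl⟩
        exact (T : Subgroup G).mul_mem (hVT ha) (hT hb)
      rw [← h2, mul_comm (Nat.card V0)]
      exact Nat.mul_le_mul_right _ (h3.trans hTc)
    rw [hVc, hk] at h1
    have hV0c : 2 ^ 10 ≤ Nat.card V0 := by
      by_contra h2
      push Not at h2
      have h3 : Nat.card V0 * 2 ^ 21 < 2 ^ 10 * 2 ^ 21 := Nat.mul_lt_mul_of_pos_right h2 (by norm_num)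
      have h4 : 2 ^ 11 * 2 ^ 20 = 2 ^ 10 * 2 ^ 21 := by norm_num
      omega
    -- `R V0` is elementary abelian
    have hcomm : ∀ a ∈ R, ∀ b ∈ V0, a * b = b * a := fun a ha b hb => mem_centralizer_iff.1 hb.2 a ha
    have hRn : R ≤ normalizer (V0 : Set G) := by
      refine le_trans ?_ (Subgroup.centralizer_le_normalizer _)
      intro a ha
      rw [mem_centralizer_iff]
      exact fun b hb => (hcomm a ha b hb).symm
    have hsup := Subgroup.coe_mul_of_left_le_normalizer_right R V0 hRn
    have hWea : IsElementaryAbelian 2 (R ⊔ V0 : Subgroup G) := by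
      have hmem : ∀ x ∈ R ⊔ V0, ∃ a ∈ R, ∃ b ∈ V0, x = a * b := by
        intro x hx
        have h2 : x ∈ ((R ⊔ V0 : Subgroup G) : Set G) := hx
        rw [hsup] at h2
        obtain ⟨a, ha, b, hb, h⟩ := h2
        exact ⟨a, ha, b, hb, h.symm⟩
      have hRR : ∀ a ∈ R, ∀ b ∈ R, a * b = b * a := fun a ha b hb =>
        congrArg Subtype.val (hR.1.is_comm.comm ⟨a, ha⟩ ⟨b, hb⟩)
      have hVV : ∀ a ∈ V, ∀ b ∈ V, a * b = b * a := fun a ha b hb =>
        congrArg Subtype.val (hV.1.is_comm.comm ⟨a, ha⟩ ⟨b, hb⟩)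
      refine ⟨⟨⟨?_⟩⟩, ?_⟩
      · rintro ⟨x, hx⟩ ⟨y, hy⟩
        obtain ⟨a, ha, b, hb, rfl⟩ := hmem x hx
        obtain ⟨c, hc, d, hd, rfl⟩ := hmem y hy
        apply Subtype.ext
        show a * b * (c * d) = c * d * (a * b)
        have e1 : Commute (a * b) (c * d) :=
          ((show Commute a c from hRR a ha c hc).mul_right (show Commute a d from hcomm a ha d hd)).mul_left
            ((show Commute b c from (hcomm c hc b hb).symm).mul_right
              (show Commute b d from hVV b hb.1 d hd.1))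
        exact e1.eq
      · intro x hx
        obtain ⟨a, ha, b, hb, rfl⟩ := hmem x hx
        rw [(show Commute a b from hcomm a ha b hb).mul_pow, hR.2 a ha, hV.2 b hb.1, one_mul]
    have hWT : R ⊔ V0 ≤ (T : Subgroup G) := sup_le (hRC.trans hT) (inf_le_left.trans hVT)
    have hWc := F.ea _ hWea
    have hW2 : Nat.card (R ⊔ V0 : Subgroup G) = 2 ^ 11 := by
      obtain ⟨m, hm⟩ := IsPGroup.iff_card.1 (isPGroup_of_ea hWea)
      rw [hm] at hWc ⊢
      have h2 : m ≤ 11 := (Nat.pow_le_pow_iff_right (by norm_num)).1 hWc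
      have h3 : ¬ m ≤ 10 := by
        intro h4
        have h5 : Nat.card (R ⊔ V0 : Subgroup G) ≤ 2 ^ 10 := hm ▸ Nat.pow_le_pow_right (by norm_num) h4
        have h6 : V0 = R ⊔ V0 := Subgroup.eq_of_le_of_card_ge le_sup_right (h5.trans hV0c)
        exact hRV ((le_sup_left.trans h6.ge).trans inf_le_left)
      have h4 : m = 11 := by omega
      rw [h4]
    have h2 := hVu (R ⊔ V0) ⟨hWT, hWea, hW2⟩
    exact hRV (le_sup_left.trans h2.le)

theorem ords_31 : ∀ n ∈ ords, 31 ∣ n → n = 32736 ∨ n = 14880 ∨ n = 9999360 ∨ n = nJ := by decide +kernel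

theorem names_l32 : ∀ x ∈ names, x.2 = 32736 → x.1 = Grp.psl 2 32 := by decide +kernel

/-- **`L₂(32) : 5` is a maximal subgroup** -/
theorem part_c [IsSimpleGroup G] (hG : ¬ IsMulCommutative G) (hJ : Cfsg.IsOfJankoFourType G) (F : Facts G)
    (e : Cfsg.Spor.J4 ≃* G) :
    ∃ M : Subgroup G, IsCoatom M ∧ ∃ (K : Subgroup ↥M) (F : Type) (_ : Field F) (_ : Fintype F),
        Fintype.card F = 32 ∧ K.Normal ∧ K.index = 5 ∧
          Nonempty (↥K ≃* Matrix.ProjectiveSpecialLinearGroup (Fin 2) F) := by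
  have hp : Nat.Prime 31 := by norm_num
  have f31 : Fact (Nat.Prime 31) := ⟨hp⟩
  set S := L32Data.S.map e.toMonoidHom with hSdef
  have hSt : S ≠ ⊤ := by
    intro h0
    apply L32Data.S_ne
    rw [eq_top_iff]
    intro x _
    have h1 : e x ∈ S := h0 ▸ mem_top _
    obtain ⟨y, hy, h2⟩ := h1
    rw [← e.injective h2]
    exact hy
  obtain ⟨M, hM, hSM⟩ := (eq_top_or_exists_le_coatom S).resolve_left hSt
  set P := zpowers (e L32Data.w31) with hPdef
  set u := e L32Data.w11 with hudef
  have hu : orderOf u = 11 := by rw [hudef, MulEquiv.orderOf_eq, L32Data.order_w11]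
  have huM : u ∈ M := hSM ⟨_, L32Data.w11_mem, rfl⟩
  have hP : Nat.card P = 31 := by rw [hPdef, Nat.card_zpowers, MulEquiv.orderOf_eq, L32Data.order_w31]
  have hPM : P ≤ M := by
    rw [hPdef, zpowers_le]
    exact hSM ⟨_, L32Data.w31_mem, rfl⟩
  have h11 : 11 ∣ Nat.card M := by
    rw [← hu, ← Nat.card_zpowers]
    exact Subgroup.card_dvd_of_le (by rw [zpowers_le]; exact huM)
  have h5 : 5 ∣ Nat.card M := by
    have h1 : orderOf (e L32Data.e) = 5 := by rw [MulEquiv.orderOf_eq, L32Data.order_e]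
    rw [← h1, ← Nat.card_zpowers]
    exact Subgroup.card_dvd_of_le (by rw [zpowers_le]; exact hSM ⟨_, L32Data.e_mem, rfl⟩)
  obtain ⟨hC0, hN⟩ := transfer e (fun P hP => Cfsg.Agent.H859.BigNum.data31 hP) hP
  have hC := cent_le hp hP hC0
  have hMN : ¬ M ≤ normalizer (P : Set G) := by
    intro h0
    have h1 := h11.trans (Subgroup.card_dvd_of_le h0)
    rw [hN] at h1
    norm_num at h1
  rcases F.base.over hp goodC_31 hP hC hPM hMN with
    ⟨R, hRM, hRn, hR, hRP, j, hj1, hj2, hj3, hj4⟩ | ⟨K, hK, hKn, h1, h2, h3, h4, h5', h6⟩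
  · exact (not_two_local hG hJ F.base e hP hC hu hR (hPM.trans hRn) (hRn huM) hRP hj1 hj2 hj4).elim
  · have h7 : Nat.card K ≠ nJ := fun h0 => hM.1 (top_le_iff.1 (F.eq_top h0 ▸ hK))
    have h8 : 31 ∣ Nat.card K := hP ▸ Subgroup.card_dvd_of_le h4
    have hfr := frattini_card hK hKn h5'
    obtain ⟨m, hm, he⟩ := sylow_mod h5'
    have h9 : Nat.card (normalizer (P : Set G) ⊓ K : Subgroup G) ∣ 310 := by
      have := Subgroup.card_dvd_of_le (inf_le_left : normalizer (P : Set G) ⊓ K ≤ normalizer (P : Set G))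
      rwa [hN] at this
    have h10 : Nat.card (normalizer (P : Set G) ⊓ M : Subgroup G) ∣ 310 := by
      have := Subgroup.card_dvd_of_le (inf_le_left : normalizer (P : Set G) ⊓ M ≤ normalizer (P : Set G))
      rwa [hN] at this
    have h10' : Nat.card (normalizer (P : Set G) ⊓ K : Subgroup G) ∣
        Nat.card (normalizer (P : Set G) ⊓ M : Subgroup G) :=
      Subgroup.card_dvd_of_le (inf_le_inf_left _ hK)
    rcases ords_31 _ h3 h8 with hc | hc | hc | hc
    · -- `L₂(32)`
      have ha : Nat.card (normalizer (P : Set G) ⊓ K : Subgroup G) = 62 := by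
        rw [hc] at he
        exact solve_mod (n := 310) (p := 31) (a := 62) (by decide +kernel) (by norm_num) h9 hm he
      rw [ha] at hfr h10'
      have hb : Nat.card (normalizer (P : Set G) ⊓ M : Subgroup G) = 310 := by
        have hb5 : 5 ∣ Nat.card (normalizer (P : Set G) ⊓ M : Subgroup G) := by
          have hd : 5 ∣ Nat.card K * Nat.card (normalizer (P : Set G) ⊓ M : Subgroup G) :=
            hfr ▸ h5.mul_right 62
          rw [hc] at hd
          exact Nat.Coprime.dvd_of_dvd_mul_left (by norm_num) hd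
        have h310 : 310 ∣ Nat.card (normalizer (P : Set G) ⊓ M : Subgroup G) := by
          have := Nat.Coprime.mul_dvd_of_dvd_of_dvd (by norm_num : Nat.Coprime 62 5) h10' hb5
          exact this
        exact Nat.dvd_antisymm h10 h310
      rw [hb, hc] at hfr
      have hMc : Nat.card M = 5 * 32736 := by (clear * - hfr; omega)
      obtain ⟨x, hx, hr, hcx⟩ := exists_name F.tab (F.known K) h2 (F.dvd K)
      have h12 := names_l32 x hx (hcx ▸ hc)
      rw [h12] at hr
      obtain ⟨Fd, i1, i2, hF, ⟨g⟩⟩ := hr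
      refine ⟨M, hM, K.subgroupOf M, Fd, i1, i2, hF, ?_, ?_, ⟨(Subgroup.subgroupOfEquivOfLe hK).trans g⟩⟩
      · exact (Subgroup.normal_subgroupOf_iff_le_normalizer hK).2 hKn
      · have h13 := (K.subgroupOf M).card_mul_index
        rw [Nat.card_congr (Subgroup.subgroupOfEquivOfLe hK).toEquiv, hc, hMc] at h13
        omega
    · exfalso
      rw [hc] at he
      have ha : Nat.card (normalizer (P : Set G) ⊓ K : Subgroup G) = 0 :=
        solve_mod (n := 310) (p := 31) (a := 0) (by decide +kernel) (by norm_num) h9 hm he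
      exact absurd ha Nat.card_pos.ne'
    · exfalso
      have hd : 11 ∣ Nat.card K * Nat.card (normalizer (P : Set G) ⊓ M : Subgroup G) :=
        hfr ▸ h11.mul_right _
      rw [hc] at hd
      have hd2 : 11 ∣ Nat.card (normalizer (P : Set G) ⊓ M : Subgroup G) :=
        Nat.Coprime.dvd_of_dvd_mul_left (by norm_num) hd
      have hd3 := hd2.trans h10
      norm_num at hd3
    · exact absurd hc h7

end Cfsg.Agent.H860.MaxL32
end

private theorem dce_1f6ed92f4d2a : _root_.True := by
  try have : _root_.True := by simp only [_root_.Cfsg.Agent.H860.L32Data.ns.eq_1]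
  try have : _root_.True := by simp only [_root_.Cfsg.Agent.H860.L32Data.es.eq_1]
  exact _root_.True.intro
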